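import Groth.Prelude.Def_HTop
import Groth.Prelude.Def_MoreMor
import Mathlib.AlgebraicGeometry.Morphisms.ClosedImmersion
import Mathlib.AlgebraicGeometry.Morphisms.Proper

/-!
# ph and h sheaves do not see thickenings
-/

set_option autoImplicit false
universe u v w

open CategoryTheory CategoryTheory.Limits AlgebraicGeometry Opposite

namespace Groth.Agent.H95.HThick

lemma bijective_of_mono {C : Type w} [Category.{v} C] (J : GrothendieckTopology C)
    (F : Sheaf J (Type (u + 1))) {X X' : C} (f : X ⟶ X') [Mono f]
    (h : Sieve.generate (Presieve.singleton f) ∈ J X') : Function.Bijective (F.obj.map f.op) := by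
  have hF : Presieve.IsSheafFor F.obj (Presieve.singleton f) :=
    (Presieve.isSheafFor_iff_generate _).2 ((isSheaf_iff_isSheaf_of_type J F.obj).1 F.property _ h)
  refine ⟨fun a b hab => hF.isSeparatedFor.ext fun Y g hg => by cases hg; exact hab, fun s => ?_⟩
  obtain ⟨a, ha, -⟩ := hF (fun Y g hg => F.obj.map (eqToHom (by cases hg; rfl)).op s) (by
    intro Y₁ Y₂ Z g₁ g₂ f₁ f₂ h₁ h₂ heq
    cases h₁; cases h₂
    rw [(cancel_mono f).1 heq])
  refine ⟨a, (ha f (Presieve.singleton_self f)).trans ?_⟩
  simp

lemma isPhCover_singleton {T T' : Scheme.{u}} (g : T ⟶ T') [IsClosedImmersion g] [Surjective g] :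
    HTop.IsPhCover (PreZeroHypercover.singleton.{0} g) := by
  refine ⟨fun _ => (inferInstance : LocallyOfFiniteType g), fun U => ?_⟩
  haveI : IsAffine (U.1 : Scheme.{u}) := U.2
  refine ⟨PreZeroHypercover.singleton (pullback.snd g U.1.ι), ⟨inferInstance,
    inferInstanceAs (Finite PUnit), fun _ => ?_, ?_⟩, fun _ => ⟨PUnit.unit, pullback.fst g U.1.ι, pullback.condition⟩⟩
  · change IsAffine (pullback g U.1.ι)
    exact isAffine_of_isAffineHom (pullback.snd g U.1.ι)
  · refine ⟨pullback g U.1.ι, pullback.snd g U.1.ι, fun _ => 𝟙 _, inferInstance, inferInstance,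
      fun _ => ?_, fun _ => Category.id_comp _, fun x => ⟨PUnit.unit, x, rfl⟩⟩
    exact inferInstanceAs (IsOpenImmersion (𝟙 (pullback g U.1.ι)))

lemma isHCover_singleton {T T' : Scheme.{u}} (g : T ⟶ T') [IsClosedImmersion g] [Surjective g]
    [LocallyOfFinitePresentation g] : HTop.IsHCover (PreZeroHypercover.singleton.{0} g) := by
  refine ⟨fun _ => (inferInstance : LocallyOfFinitePresentation g), fun U => ?_⟩
  haveI : IsAffine (U.1 : Scheme.{u}) := U.2
  refine ⟨PreZeroHypercover.singleton (pullback.snd g U.1.ι), ⟨inferInstance,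
    inferInstanceAs (Finite PUnit), fun _ => ?_, ?_⟩, fun _ => ⟨PUnit.unit, pullback.fst g U.1.ι, pullback.condition⟩⟩
  · change IsAffine (pullback g U.1.ι)
    exact isAffine_of_isAffineHom (pullback.snd g U.1.ι)
  · intro V _ _ x
    haveI : IsClosedImmersion (pullback.snd (pullback.snd g U.1.ι) x) := inferInstance
    haveI : Surjective (pullback.snd (pullback.snd g U.1.ι) x) := inferInstance
    haveI := isIso_of_isClosedImmersion_of_surjective (pullback.snd (pullback.snd g U.1.ι) x)
    refine ⟨V, inferInstance, inferInstance, 𝟙 V, ⟨Function.injective_id, ⟨fun a ha => ha⟩⟩, PUnit.unit,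
      inv (pullback.snd (pullback.snd g U.1.ι) x) ≫ pullback.fst (pullback.snd g U.1.ι) x, ?_⟩
    rw [Spec.map_id, Category.id_comp]
    change (inv _ ≫ pullback.fst _ _) ≫ pullback.snd g U.1.ι = x
    rw [Category.assoc, pullback.condition, IsIso.inv_hom_id_assoc]

lemma generate_mem_over {S : Scheme.{u}} {X X' : Over S} (f : X ⟶ X') (J : GrothendieckTopology Scheme.{u})
    (h : Sieve.generate (Presieve.singleton f.left) ∈ J X'.left) :
    Sieve.generate (Presieve.singleton f) ∈ (J.over S) X' := by
  rw [GrothendieckTopology.mem_over_iff]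
  refine J.superset_covering ((Sieve.generate_le_iff _ _).2 fun Y g hg => ?_) h
  cases hg
  rw [Sieve.overEquiv_iff]
  exact ⟨X, Over.homMk (𝟙 X.left) (by simp), f, Presieve.singleton_self f, by ext; simp⟩

theorem ph_bijective (S : Scheme.{u}) (F : HTop.ShPh S) {X X' : Over S} (f : X ⟶ X')
    (hf : MoreMor.IsThickening f.left) : Function.Bijective (F.obj.map f.op) := by
  haveI := hf.1
  haveI := hf.2
  haveI : Mono f := (Over.forget S).mono_of_mono_map (inferInstanceAs (Mono f.left))
  refine bijective_of_mono _ F f (generate_mem_over f HTop.phTopology ?_)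
  refine Precoverage.generate_mem_toGrothendieck ?_
  have := (HTop.presieve₀_mem_phPrecoverage_iff _).2 (isPhCover_singleton f.left)
  rwa [PreZeroHypercover.presieve₀_singleton] at this

theorem h_bijective (S : Scheme.{u}) (F : HTop.ShH S) {X X' : Over S} (f : X ⟶ X')
    (hf : MoreMor.IsThickening f.left) [LocallyOfFinitePresentation f.left] :
    Function.Bijective (F.obj.map f.op) := by
  haveI := hf.1
  haveI := hf.2
  haveI : Mono f := (Over.forget S).mono_of_mono_map (inferInstanceAs (Mono f.left))
  refine bijective_of_mono _ F f (generate_mem_over f HTop.hTopology ?_)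
  refine Precoverage.generate_mem_toGrothendieck ?_
  have := (HTop.presieve₀_mem_hPrecoverage_iff _).2 (isHCover_singleton f.left)
  rwa [PreZeroHypercover.presieve₀_singleton] at this

end Groth.Agent.H95.HThick
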